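import Cfsg.Agent.H192.Dp.Res
import Cfsg.Agent.H304.GeoL
import Cfsg.Agent.H264.FKS.Socle
import Cfsg.Agent.H264.FKS.Char
import Cfsg.Agent.H304.PslRes

/-!
# S5734, DP1: `PSL_n(q)`, `n ≥ 4` (task 2914, hub helper192)

Every geometric maximal subgroup of `PSL_n(q)`, `n ≥ 4`, `(n, q) ≠ (6, 2)`, misses a primitive prime of `q^e - 1` with
`n < 2 e`, `e ≤ n`; the residual class is delegated to `ResX`, `ResP`. (The classes follow `H304/GeoL.lean`.)
-/

set_option autoImplicit false
set_option linter.style.haveILetI false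

namespace Cfsg.Agent.H973.Dp

open Matrix Cfsg Cfsg.Geo Cfsg.Agent.H728.DghpNum Cfsg.Agent.H304.Ppd Cfsg.Agent.H304.PslT
  Cfsg.Agent.H251.GeoCard
open Cfsg.Agent.H304.GeoL (dvd_iff' exists_good)
open Cfsg.Agent.H192.Dp Cfsg.Agent.OrdDiv Cfsg.Agent.H436 Cfsg.Agent.H915.GN

variable {F : Type*} [Field F] [Fintype F] {n : ℕ}

/-- a missing primitive prime of large level -/
def Mis (M : Subgroup (Matrix.ProjectiveSpecialLinearGroup (Fin n) F)) : Prop :=
  ∃ e u : ℕ, Ppd (Fintype.card F) e u ∧ 2 ≤ e ∧ n < 2 * e ∧ e ≤ n ∧ ¬ u ∣ Nat.card M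

theorem miss_of_elt {M : Subgroup (Matrix.ProjectiveSpecialLinearGroup (Fin n) F)} {e u : ℕ}
    (hP : Ppd (Fintype.card F) e u) (he : 2 ≤ e) (h2 : n < 2 * e) (hen : e ≤ n)
    (h : ∀ x ∈ pre M, orderOf x = u → False) : Mis M := by
  refine ⟨e, u, hP, he, h2, hen, fun hd => ?_⟩
  obtain ⟨x, hx, hxM⟩ := exists_of_dvd hP.prime hd
  exact h x hxM hx

theorem miss_of_card {M : Subgroup (Matrix.ProjectiveSpecialLinearGroup (Fin n) F)} {e u : ℕ}
    (hP : Ppd (Fintype.card F) e u) (he : 2 ≤ e) (h2 : n < 2 * e) (hen : e ≤ n) {X : Subgroup (GL (Fin n) F)}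
    (hX : pre M ≤ X) (h : ¬ u ∣ Nat.card X) : Mis M := by
  refine miss_of_elt hP he h2 hen fun x hx hxu => h ?_
  rw [← hxu, ← Subgroup.orderOf_mk x (hX hx)]
  exact _root_.orderOf_dvd_natCard _

theorem class2 (hn : 3 ≤ n) {M : Subgroup (Matrix.ProjectiveSpecialLinearGroup (Fin n) F)}
    {t m : ℕ} {D : Fin t → Submodule F (Fin n → F)} (htm : t * m = n) (hD : IsMDecomposition m D)
    (hM : pre M ≤ decompositionStabilizer D) : Mis M := by
  obtain ⟨e, u, hP, h1, h2, h3, h4⟩ := exists_good (F := F) hn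
  refine miss_of_card hP h4 h2 h3 hM fun hd => ?_
  have ht := hD.two_le
  have hm := hD.pos
  have hF : ¬ u ∣ Nat.card F := by rw [Nat.card_eq_fintype_card]; exact hP.ndvd
  rcases decomp hD hP.prime hF hd with h5 | h5
  · have : t ≤ n := by rw [← htm]; exact Nat.le_mul_of_pos_right t hm
    omega
  · rw [Nat.card_eq_fintype_card] at h5
    have h6 := dvd_iff' hP h5
    have : 2 * m ≤ n := by rw [← htm]; exact Nat.mul_le_mul_right m ht
    omega

theorem class4 (hn : 3 ≤ n) {M : Subgroup (Matrix.ProjectiveSpecialLinearGroup (Fin n) F)}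
    {n₁ n₂ : ℕ} {e : Fin n ≃ Fin n₁ × Fin n₂} {P : GL (Fin n) F} (h1 : 2 ≤ n₁) (h12 : n₁ < n₂) (hnn : n₁ * n₂ = n)
    (hM : pre M ≤ tensorProductSubgroup n₁ n₂ e P) : Mis M := by
  obtain ⟨e, u, hP, h2, h3, h4, h5⟩ := exists_good (F := F) hn
  refine miss_of_card hP h5 h3 h4 hM fun hd => ?_
  have hF : ¬ u ∣ Nat.card F := by rw [Nat.card_eq_fintype_card]; exact hP.ndvd
  have h6 := tensor _ _ hP.prime hF hd
  rw [Nat.card_eq_fintype_card] at h6
  have h7 := dvd_iff' hP h6
  rw [max_eq_right h12.le] at h7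
  have : 2 * n₂ ≤ n := by rw [← hnn]; exact Nat.mul_le_mul_right n₂ h1
  omega

theorem class7 (hn : 3 ≤ n) {M : Subgroup (Matrix.ProjectiveSpecialLinearGroup (Fin n) F)}
    {m t : ℕ} {e : Fin n ≃ (Fin t → Fin m)} {P : GL (Fin n) F} (hm : 3 ≤ m) (ht : 2 ≤ t) (hmt : m ^ t = n)
    (hM : pre M ≤ tensorWreathSubgroup m t e P) : Mis M := by
  obtain ⟨e, u, hP, h2, h3, h4, h5⟩ := exists_good (F := F) hn
  refine miss_of_card hP h5 h3 h4 hM fun hd => ?_
  have hF : ¬ u ∣ Nat.card F := by rw [Nat.card_eq_fintype_card]; exact hP.ndvd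
  rcases wreath _ _ hP.prime hF hd with h6 | h6
  · have : t < m ^ t := Nat.lt_pow_self (by omega)
    omega
  · rw [Nat.card_eq_fintype_card] at h6
    have h7 := dvd_iff' hP h6
    have h8 : m ^ 2 ≤ m ^ t := Nat.pow_le_pow_right (by omega) ht
    have h9 : 2 * m ≤ m ^ 2 := by rw [pow_two]; exact Nat.mul_le_mul_right m (by omega)
    omega

theorem class3 (hn : 4 ≤ n) {M : Subgroup (Matrix.ProjectiveSpecialLinearGroup (Fin n) F)}
    {r : ℕ} {K : Subalgebra F (Matrix (Fin n) (Fin n) F)} (hr : r.Prime) (hrn : r ∣ n) (hK : IsFieldSubalgebra r K)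
    (hM : pre M ≤ subalgebraNormalizer K) : Mis M := by
  have hq : 2 ≤ Fintype.card F := Fintype.one_lt_card
  haveI : Nonempty (Fin n) := ⟨⟨0, by omega⟩⟩
  by_cases hrn' : r = n
  · subst hrn'
    have h5 : 5 ≤ r := by
      have h4 : r ≠ 4 := by
        rintro rfl
        exact absurd hr (by decide)
      omega
    obtain ⟨u, hP⟩ := exists_ppd (q := Fintype.card F) (e := r - 2) hq (by omega) (by
      rintro ⟨-, h6⟩
      have h8 : r = 8 := by omega
      subst h8
      exact absurd hr (by decide))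
    refine miss_of_card hP (by omega) (by omega) (by omega) hM fun hd => ?_
    have hF : ¬ u ∣ Nat.card F := by rw [Nat.card_eq_fintype_card]; exact hP.ndvd
    rcases extension hr hK hP.prime hF hd with h6 | ⟨i, h6, h7, h8⟩
    · subst h6
      have h7 : u - 2 ∣ 1 := by
        have h8 := Nat.dvd_sub hP.dvd_pred (dvd_refl (u - 2))
        rwa [show u - 1 - (u - 2) = 1 by omega] at h8
      have := Nat.le_of_dvd one_pos h7
      omega
    · rw [Nat.card_eq_fintype_card, ← pow_mul, hP.dvd_iff] at h8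
      rw [Fintype.card_fin, Nat.div_self (by omega)] at h7
      have hi : i = 1 := by omega
      rw [hi, mul_one] at h8
      have h9 : r - 2 ∣ 2 := by
        have h10 := Nat.dvd_sub h8 (dvd_refl (r - 2))
        rwa [show r - (r - 2) = 2 by omega] at h10
      have := Nat.le_of_dvd (by norm_num) h9
      omega
  · have hlt : r < n := lt_of_le_of_ne (Nat.le_of_dvd (by omega) hrn) hrn'
    obtain ⟨c, hc⟩ := hrn
    have hc2 : 2 ≤ c := by
      rcases c with _ | _ | c
      · omega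
      · omega
      · omega
    have hr2 := hr.two_le
    have h7 : n ≠ 7 := by
      rintro rfl
      have h8 : Nat.Prime 7 := by norm_num
      rcases (Nat.dvd_prime h8).mp ⟨c, hc⟩ with h9 | h9
      · exact hr.one_lt.ne' h9
      · exact hrn' h9
    obtain ⟨u, hP⟩ := exists_ppd (q := Fintype.card F) (e := n - 1) hq (by omega) (by omega)
    refine miss_of_card hP (by omega) (by omega) (by omega) hM fun hd => ?_
    have hF : ¬ u ∣ Nat.card F := by rw [Nat.card_eq_fintype_card]; exact hP.ndvd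
    rcases extension hr hK hP.prime hF hd with h5 | ⟨i, h5, h6, h8⟩
    · have := hP.lt
      have h9 : 2 * r ≤ n := by rw [hc, mul_comm]; exact Nat.mul_le_mul_left r hc2
      omega
    · rw [Nat.card_eq_fintype_card, ← pow_mul, hP.dvd_iff] at h8
      rw [Fintype.card_fin] at h6
      have h9 : r * i ≤ n := (Nat.mul_le_mul_left r h6).trans (Nat.mul_div_le n r)
      have h10 : 0 < r * i := Nat.mul_pos hr.pos (by omega)
      obtain ⟨j, hj⟩ := h8
      have hj1 : j = 1 := by
        have hj0 : 0 < j := by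
          rcases Nat.eq_zero_or_pos j with h | h
          · rw [h, mul_zero] at hj; omega
          · exact h
        by_contra hj1
        have : (n - 1) * 2 ≤ (n - 1) * j := Nat.mul_le_mul_left _ (by omega)
        omega
      rw [hj1, mul_one] at hj
      have h11 : r ∣ n - 1 := ⟨i, hj.symm⟩
      have h12 : r ∣ n := ⟨c, hc⟩
      have h13 : r ∣ 1 := by
        have := Nat.dvd_sub h12 h11
        rwa [show n - (n - 1) = 1 by omega] at this
      exact hr.one_lt.ne' (Nat.dvd_one.mp h13)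

theorem class5 (hn : 4 ≤ n) {M : Subgroup (Matrix.ProjectiveSpecialLinearGroup (Fin n) F)}
    {F₀ : Subfield F} {r : ℕ} {P : GL (Fin n) F} (hr : r.Prime) (hF₀ : Fintype.card F = Nat.card F₀ ^ r)
    (hM : pre M ≤ subfieldSubgroup F₀ P) : Mis M := by
  have hq0 : 2 ≤ Nat.card F₀ := Finite.one_lt_card
  have hr2 := hr.two_le
  have key : ∀ e u : ℕ, Ppd (Nat.card F₀) (r * e) u → 2 ≤ e → n < 2 * e → e ≤ n → n < r * e → Mis M := by
    intro e u hu he h2 hen hne
    have hP : Ppd (Fintype.card F) e u := by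
      have := hu.pow r hr.ne_zero
      rw [← hF₀, Nat.gcd_comm, Nat.gcd_mul_right_right, Nat.mul_div_cancel_left _ hr.pos] at this
      exact this
    refine miss_of_card hP he h2 hen hM fun hd => ?_
    have hF : ¬ u ∣ Nat.card F := by rw [Nat.card_eq_fintype_card]; exact hP.ndvd
    rcases subfield hP.prime hF hd with h1 | h1
    · rw [Nat.card_eq_fintype_card] at h1
      have := (hP.dvd_iff 1).mp (by rwa [pow_one])
      exact absurd (Nat.le_of_dvd one_pos this) (by omega)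
    · have h2 := dvd_iff' hu h1
      rw [Fintype.card_fin] at h2
      omega
  have h6 : 2 * 4 ≤ r * n := Nat.mul_le_mul hr2 hn
  obtain ⟨u, hu⟩ := exists_ppd (q := Nat.card F₀) (e := r * n) hq0 (by omega) (by omega)
  refine key n u hu (by omega) (by omega) le_rfl ?_
  have : 2 * n ≤ r * n := Nat.mul_le_mul_right n hr2
  omega

theorem class6 (hn : 3 ≤ n) {M : Subgroup (Matrix.ProjectiveSpecialLinearGroup (Fin n) F)}
    {r k : ℕ} {R : Subgroup (GL (Fin n) F)} (hR : IsLinearSymplecticTypeData r R) (hro : Odd r)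
    (hk : 1 ≤ k) (hnk : n = r ^ k) (hZ : Nat.card (Subgroup.center R) = r) (hc : Nat.card R = r ^ (1 + 2 * k))
    (hM : pre M ≤ subgroupNormalizer R) : Mis M := by
  have hq : 2 ≤ Fintype.card F := Fintype.one_lt_card
  haveI : Nonempty (Fin n) := ⟨⟨0, by omega⟩⟩
  have hno : Odd n := by rw [hnk]; exact hro.pow
  obtain ⟨u, hP⟩ := exists_ppd (q := Fintype.card F) (e := n) hq hn (by
    rintro ⟨-, h6⟩
    rw [h6] at hno
    exact absurd hno (by decide))
  refine miss_of_card hP (by omega) (by omega) le_rfl hM fun hd => ?_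
  have hlt := hP.lt
  rcases symplecticType hR.symplecticType hR.absIrred (Or.inl ⟨hro, hZ, hc⟩) hk hP.prime hd with h1 | h1 | h1
  · have : r ≤ r ^ k := Nat.le_self_pow (by omega) r
    omega
  · rw [Nat.card_eq_fintype_card] at h1
    have := (hP.dvd_iff 1).mp (by rwa [pow_one])
    exact absurd (Nat.le_of_dvd one_pos this) (by omega)
  · rw [← hnk] at h1
    have h2 : u = n + 1 := by omega
    have h3 : Even u := by rw [h2]; exact hno.add_one
    have h4 := (hP.prime.even_iff).mp h3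
    omega

theorem class6' (hn : 3 ≤ n) {M : Subgroup (Matrix.ProjectiveSpecialLinearGroup (Fin n) F)}
    {k : ℕ} {R : Subgroup (GL (Fin n) F)} (hR : IsLinearSymplecticTypeData 2 R)
    (hnk : n = 2 ^ k) (hZ : Nat.card (Subgroup.center R) = 4) (hc : Nat.card R = 2 ^ (2 + 2 * k))
    (hM : pre M ≤ subgroupNormalizer R) : Mis M := by
  have hq : 2 ≤ Fintype.card F := Fintype.one_lt_card
  haveI : Nonempty (Fin n) := ⟨⟨0, by omega⟩⟩
  have hk2 : 2 ≤ k := by
    rcases k with _ | _ | k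
    · rw [hnk] at hn; norm_num at hn
    · rw [hnk] at hn; norm_num at hn
    · omega
  have h4 : 4 ≤ n := by
    rw [hnk]
    calc 4 = 2 ^ 2 := by norm_num
      _ ≤ 2 ^ k := Nat.pow_le_pow_right (by norm_num) hk2
  have hne : Even n := by rw [hnk]; exact (Nat.even_pow.mpr ⟨even_two, by omega⟩)
  obtain ⟨u, hP⟩ := exists_ppd (q := Fintype.card F) (e := n - 1) hq (by omega) (by
    rintro ⟨-, h6⟩
    obtain ⟨c, hc⟩ := hne
    omega)
  refine miss_of_card hP (by omega) (by omega) (by omega) hM fun hd => ?_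
  have hlt := hP.lt
  rcases symplecticType hR.symplecticType hR.absIrred (Or.inr ⟨rfl, hZ, hc⟩) (by omega) hP.prime hd with h1 | h1 | h1
  · omega
  · rw [Nat.card_eq_fintype_card] at h1
    have := (hP.dvd_iff 1).mp (by rwa [pow_one])
    exact absurd (Nat.le_of_dvd one_pos this) (by omega)
  · rw [← hnk] at h1
    obtain ⟨j, hj⟩ := hP.dvd_pred
    have hu1 : 0 < u - 1 := by have := hP.prime.one_lt; omega
    have hj1 : j = 1 := by
      have hj0 : 0 < j := by
        rcases Nat.eq_zero_or_pos j with h | h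
        · rw [h, mul_zero] at hj; omega
        · exact h
      by_contra hj1
      have : (n - 1) * 2 ≤ (n - 1) * j := Nat.mul_le_mul_left _ (by omega)
      omega
    rw [hj1, mul_one] at hj
    have h2 : u = n := by omega
    have h3 := (hP.prime.even_iff).mp (h2 ▸ hne)
    omega

theorem class8_symp {M : Subgroup (Matrix.ProjectiveSpecialLinearGroup (Fin n) F)}
    {f : (Fin n → F) → (Fin n → F) → F} (hf : IsSymplecticForm f) (hne : Even n) (h4 : 4 ≤ n)
    (hM : pre M ≤ similarityGroup f) : Mis M := by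
  have hq : 2 ≤ Fintype.card F := Fintype.one_lt_card
  haveI : Nonempty (Fin n) := ⟨⟨0, by omega⟩⟩
  obtain ⟨c, hc⟩ := hne
  obtain ⟨u, hP⟩ := exists_ppd (q := Fintype.card F) (e := n - 1) hq (by omega) (by omega)
  refine miss_of_elt hP (by omega) (by omega) (by omega) fun x hx hxu => ?_
  have h1 := even_of_bilinear hP (by omega) (by rw [Fintype.card_fin]; omega) hxu hf.bilinear hf.nondegenerate (hM hx)
  obtain ⟨d, hd⟩ := h1
  omega

theorem class8_quad (hn : 3 ≤ n) {M : Subgroup (Matrix.ProjectiveSpecialLinearGroup (Fin n) F)}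
    {Q : (Fin n → F) → F} (hQ : IsNondegenerateQuadraticForm Q)
    (hM : pre M ≤ quadSimilarityGroup Q) : Mis M := by
  have hq : 2 ≤ Fintype.card F := Fintype.one_lt_card
  haveI : Nonempty (Fin n) := ⟨⟨0, by omega⟩⟩
  obtain ⟨e, heo, he3, hen, hne⟩ : ∃ e, Odd e ∧ 3 ≤ e ∧ e ≤ n ∧ n < 2 * e := by
    rcases Nat.even_or_odd n with h | h
    · obtain ⟨c, hc⟩ := h
      exact ⟨n - 1, ⟨c - 1, by omega⟩, by omega, by omega, by omega⟩
    · exact ⟨n, h, hn, le_rfl, by omega⟩
  obtain ⟨u, hP⟩ := exists_ppd (q := Fintype.card F) (e := e) hq he3 (by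
    rintro ⟨-, h6⟩
    rw [h6] at heo
    exact absurd heo (by decide))
  refine miss_of_elt hP (by omega) hne hen fun x hx hxu => ?_
  have h1 := even_of_quadratic hP (by omega) (by rw [Fintype.card_fin]; omega) hxu hQ (hM hx)
  exact (Nat.not_even_iff_odd.mpr heo) h1

theorem class8_unit (hn : 3 ≤ n) {M : Subgroup (Matrix.ProjectiveSpecialLinearGroup (Fin n) F)}
    {σ : F ≃+* F} {f : (Fin n → F) → (Fin n → F) → F} (hf : IsUnitaryForm σ f)
    (hM : pre M ≤ similarityGroup f) : Mis M := by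
  haveI : Nonempty (Fin n) := ⟨⟨0, by omega⟩⟩
  obtain ⟨p, k, hp, hpF, hF, hσ⟩ := exists_frobenius hf.ne_refl hf.involutive
  haveI : Fact p.Prime := ⟨hp⟩
  obtain ⟨e, heo, he2, hen, hne⟩ : ∃ e, Even e ∧ 2 ≤ e ∧ e ≤ n ∧ n < 2 * e := by
    rcases Nat.even_or_odd n with h | h
    · exact ⟨n, h, by omega, le_rfl, by omega⟩
    · obtain ⟨c, hc⟩ := h
      exact ⟨n - 1, ⟨c, by omega⟩, by omega, by omega, by omega⟩
  have hq0 : 2 ≤ p ^ k := by
    have h1 : 1 < Fintype.card F := Fintype.one_lt_card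
    rcases Nat.eq_zero_or_pos k with h | h
    · rw [hF, h] at h1; norm_num at h1
    · exact hp.two_le.trans (Nat.le_self_pow (by omega) p)
  obtain ⟨u, hP⟩ := exists_ppd (q := p ^ k) (e := 2 * e) hq0 (by omega) (by
    rintro ⟨-, h6⟩
    obtain ⟨c, hc⟩ := heo
    omega)
  have hPq : Ppd (Fintype.card F) e u := by
    rw [hF]
    have := hP.pow 2 two_ne_zero
    rwa [Nat.gcd_comm, Nat.gcd_mul_right_right, Nat.mul_div_cancel_left _ (by norm_num)] at this
  refine miss_of_elt hPq he2 hne hen fun x hx hxu => ?_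
  have h1 := odd_of_unitary hF hP he2 (by rw [Fintype.card_fin]; omega) hxu hσ hf (hM hx)
  exact (Nat.not_even_iff_odd.mpr h1) heo

theorem class1 (hn : 3 ≤ n) (hex : ¬ (Fintype.card F = 2 ∧ n = 6))
    {M : Subgroup (Matrix.ProjectiveSpecialLinearGroup (Fin n) F)}
    {W : Submodule F (Fin n → F)} (hW0 : W ≠ ⊥) (hW1 : W ≠ ⊤) (hM : pre M ≤ subspaceStabilizer W) : Mis M := by
  have hq : 2 ≤ Fintype.card F := Fintype.one_lt_card
  have h1 : 0 < Module.finrank F W := Nat.pos_of_ne_zero fun h => hW0 (Submodule.finrank_eq_zero.mp h)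
  have h2 : Module.finrank F W < n := by
    have := Submodule.finrank_lt hW1
    rwa [Module.finrank_fintype_fun_eq_card, Fintype.card_fin] at this
  obtain ⟨u, hP⟩ := exists_ppd hq hn hex
  refine miss_of_elt hP (by omega) (by omega) le_rfl fun x hx hxu => ?_
  rcases le_finrank_of_mem_stabilizer hP hxu (mem_of_subspaceStabilizer (hM hx)) with h4 | h4
  · omega
  · rw [Fintype.card_fin] at h4; omega

/-- **The geometric classes.** -/
theorem geo (hn : 4 ≤ n) (hex : ¬ (Fintype.card F = 2 ∧ n = 6))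
    {M : Subgroup (Matrix.ProjectiveSpecialLinearGroup (Fin n) F)} (hM : IsCoatom M) :
    Mis M ∨ InLinearResidualClass (pre M) := by
  have hn3 : 3 ≤ n := by omega
  rcases H915.sl_cases hn3 (isMaximalIn_pre hM) with ⟨W, h0, h1, h⟩ | ⟨t, m, D, htm, hD, -, -, h⟩ |
    ⟨r, K, hr, hrn, hK, h⟩ | ⟨n₁, n₂, e, P, h1, h2, h3, -, h⟩ | ⟨F₀, r, P, hr, hF, h⟩ |
    ⟨r, k, p, e, R, hR, -, hro, -, hk, hnk, -, -, hZ, hc, h⟩ | ⟨k, R, hR, hnk, -, -, hZ, hc, h⟩ |
    ⟨m, t, e, P, hm, ht, hmt, h⟩ | ⟨f, hf, hne, h4, h⟩ | ⟨σ, f, hf, h⟩ | ⟨-, Q, hQ, h⟩ | h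
  · exact Or.inl (class1 hn3 hex h0 h1 (h.le.trans inf_le_left))
  · exact Or.inl (class2 hn3 htm hD (h.le.trans inf_le_left))
  · exact Or.inl (class3 hn hr hrn hK (h.le.trans inf_le_left))
  · exact Or.inl (class4 hn3 h1 h2 h3 (h.le.trans inf_le_left))
  · exact Or.inl (class5 hn hr hF (h.le.trans inf_le_left))
  · exact Or.inl (class6 hn3 hR hro hk hnk hZ hc (h.le.trans inf_le_left))
  · exact Or.inl (class6' hn3 hR hnk hZ hc (h.le.trans inf_le_left))
  · exact Or.inl (class7 hn3 hm ht hmt (h.le.trans inf_le_left))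
  · exact Or.inl (class8_symp hf hne h4 (h.le.trans inf_le_left))
  · exact Or.inl (class8_unit hn3 hf (h.le.trans inf_le_left))
  · exact Or.inl (class8_quad hn3 hQ (h.le.trans inf_le_left))
  · exact Or.inr h

theorem Mis.goodIdx {M : Subgroup (Matrix.ProjectiveSpecialLinearGroup (Fin n) F)} (h : Mis M) :
    GoodIdx (.psl n (Fintype.card F)) M := by
  obtain ⟨e, u, hP, he, h2, hen, hd⟩ := h
  exact GoodIdx.of_not_dvd hP.prime ⟨e, he, h2, hen, hP.ord⟩ (dvd_card he hen hP) hd

/-- `GoodIdx` under an isomorphism -/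
theorem goodIdx_of_map {g : Grp} {T T' : Type*} [Group T] [Group T'] (e : T ≃* T') {R : Subgroup T}
    (h : GoodIdx g (R.map e.toMonoidHom)) : GoodIdx g R := by
  obtain ⟨u, h1, h2, h3⟩ := h
  exact ⟨u, h1, h2, (Subgroup.index_map_equiv R e) ▸ h3⟩

theorem map_ne_top {T T' : Type*} [Group T] [Group T'] (e : T ≃* T') {R : Subgroup T} (h : R ≠ ⊤) :
    R.map e.toMonoidHom ≠ ⊤ := by
  intro h1
  apply h
  have h2 := congrArg (Subgroup.comap e.toMonoidHom) h1
  rwa [Subgroup.comap_map_eq_self_of_injective e.injective, Subgroup.comap_top] at h2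

/-- **DP1**, with the names of the simple groups as a hypothesis -/
theorem psl_of' (hN : ∀ (X : Type) [Group X] [Finite X] [IsSimpleGroup X], ¬ IsMulCommutative X → ∃ g, IsNamed g X)
    (hX : ResX) (hP : ResP) : FamRow (fun g => ∃ n q, g = .psl n q) := by
  obtain ⟨B1, h1⟩ := hX
  obtain ⟨B2, h2⟩ := hP
  refine ⟨max (max B1 B2) 65, ?_⟩
  rintro gT T _ _ _ hT hB ⟨n, q, rfl⟩ hb R hR
  obtain ⟨F, iF, iFt, hF, ⟨e⟩⟩ := hT.real
  subst hF
  have hn : 4 ≤ n := hB
  have hb' : max (max B1 B2) 65 ≤ Fintype.card F ^ n := hb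
  have hex : ¬ (Fintype.card F = 2 ∧ n = 6) := by
    rintro ⟨hF, hn⟩
    rw [hF, hn] at hb'
    have : 65 ≤ 2 ^ 6 := (le_max_right _ _).trans hb'
    norm_num at this
  have hR' := map_ne_top e hR
  have hfin : Finite (Matrix.ProjectiveSpecialLinearGroup (Fin n) F) := Quotient.finite _
  obtain ⟨M, hM, hRM⟩ := (eq_top_or_exists_le_coatom (R.map e.toMonoidHom)).resolve_left hR'
  left
  apply goodIdx_of_map e
  refine GoodIdx.anti ?_ hRM
  have hT' : IsNamed (.psl n (Fintype.card F)) (Matrix.ProjectiveSpecialLinearGroup (Fin n) F) :=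
    Cfsg.Agent.H264.FKS.named_psl (F := F) (n := n) (by omega) (by omega)
  rcases geo hn hex hM with h | ⟨P, hP, -⟩
  · exact h.goodIdx
  · obtain ⟨S, hSn, hSs, hna, hC, ⟨e'⟩⟩ := Cfsg.Agent.H264.FKS.exists_socle
      (Matrix.SpecialLinearGroup.toGL (n := Fin n) (R := F)) H304.PslT.toGL_injective
      (H304.PslT.pr n F) (QuotientGroup.mk'_surjective _)
      (fun x => (QuotientGroup.eq_one_iff x).trans (H304.PslT.center_iff (by omega))) hP
    obtain ⟨p, hpc⟩ := CharP.exists F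
    obtain ⟨f, hp, hcard⟩ := FiniteField.card F p
    have hch : HasChar p (.psl n (Fintype.card F)) := ⟨f, hcard⟩
    obtain ⟨g, hg⟩ := hN S hna
    by_cases hch' : HasChar p g
    · rcases h2 _ p _ hp hT' hB hch ((le_max_right _ _).trans ((le_max_left _ _).trans hb')) M S hM.1 hSn hSs hna hC
        g hg hch' with h3 | ⟨m, q, u, h3, -⟩
      · exact h3
      · rcases h3 with h3 | h3 | h3 <;> simp at h3
    · exact h1 _ p _ hp hT' hB hch ((le_max_left _ _).trans ((le_max_left _ _).trans hb')) M S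
        ⟨hSn, hSs, hna, hC, Fin n, inferInstance, inferInstance, F, iF, inferInstance, hpc, Fintype.card_fin n, P,
          hP.perfect, ⟨e'⟩⟩ g hg hch'

end Cfsg.Agent.H973.Dp
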