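import Cfsg.Agent.H973.Dp.PSL
import Cfsg.Agent.H436.Simple

/-!
# S5734, DP1: `PSL_n(q)`, `n ≥ 4` (task 2914, hub helper192), final form
-/

set_option autoImplicit false

namespace Cfsg.Agent.H973.Dp

open Cfsg.Agent.H192.Dp

/-- **DP1.** -/
theorem psl_of (hX : ResX) (hP : ResP) : FamRow (fun g => ∃ n q, g = .psl n q) :=
  psl_of' (fun _ _ _ _ h => Cfsg.Agent.H436.name h) hX hP

end Cfsg.Agent.H973.Dp
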